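import Mathlib

/-!
Regular friendship graphs have degree at most two.
-/

set_option autoImplicit false

namespace Cfsg.Agent.Comb

open Finset Matrix

theorem le_two_of_regular_friendship {V : Type*} [Finite V] [Nonempty V] (R : V → V → Prop)
    (hs : ∀ v w, R v w → R w v) (hi : ∀ v, ¬ R v v) (hf : ∀ v w, v ≠ w → ∃! u, R v u ∧ R w u)
    {d : ℕ} (hd : ∀ v, Nat.card {u // R v u} = d) : d ≤ 2 := by
  classical
  have := Fintype.ofFinite V
  by_contra hlt
  obtain ⟨p, hp, hpd⟩ := Nat.exists_prime_and_dvd (n := d - 1) (by omega)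
  have := Fact.mk hp
  have hd1 : (d : ZMod p) = 1 := by
    have h1 : ((d - 1 : ℕ) : ZMod p) = 0 := (ZMod.natCast_eq_zero_iff _ _).2 hpd
    rwa [Nat.cast_sub (by omega), Nat.cast_one, sub_eq_zero] at h1
  let A : Matrix V V (ZMod p) := Matrix.of fun v w => if R v w then 1 else 0
  let J : Matrix V V (ZMod p) := Matrix.of fun _ _ => 1
  have hrow : ∀ v, ∑ u, A v u = 1 := fun v => by
    simp only [A, of_apply, sum_boole]
    rw [← hd1, ← hd v, Nat.card_eq_fintype_card, Fintype.card_subtype]
  have hAJ : A * J = J := by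
    ext v w
    simp only [Matrix.mul_apply, J, of_apply, mul_one, hrow]
  have hAA : A * A = J := by
    ext v w
    have h1 : ∀ u, A v u * A u w = if R v u ∧ R w u then 1 else 0 := fun u => by
      have : R u w ↔ R w u := ⟨hs _ _, hs _ _⟩
      simp only [A, of_apply, this]
      split_ifs <;> simp_all
    simp only [Matrix.mul_apply, h1, J, of_apply]
    by_cases h : v = w
    · subst h
      simpa only [and_self, A, of_apply] using hrow v
    · obtain ⟨u, hu, huniq⟩ := hf v w h
      rw [sum_eq_single u (fun x _ hx => if_neg fun e => hx (huniq x e)) (by simp), if_pos hu]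
  have hpow : ∀ k, A ^ (k + 2) = J := fun k => by
    induction k with
    | zero => rw [zero_add, sq, hAA]
    | succ k ih => rw [add_right_comm, pow_succ', ih, hAJ]
  have hcard : (Fintype.card V : ZMod p) = 1 := by
    obtain ⟨v⟩ := ‹Nonempty V›
    have h1 : A * A * J = J := by rw [mul_assoc, hAJ, hAJ]
    rw [hAA] at h1
    simpa [Matrix.mul_apply, J] using congrFun (congrFun h1 v) v
  have h1 := ZMod.trace_pow_card A
  obtain ⟨k, hk⟩ : ∃ k, p = k + 2 := ⟨p - 2, by have := hp.two_le; omega⟩
  have h2 : A ^ p = J := by rw [← hpow k, ← hk]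
  have h3 : trace A = 0 := by simp [trace, A, hi]
  rw [h2, h3, zero_pow hp.ne_zero] at h1
  simp [trace, J, hcard] at h1

end Cfsg.Agent.Comb
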